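import Groth.Agent.IntFunLib.StrictNef
import Groth.Agent.IntFunLib.NefApps
import Groth.Agent.LocFFLib.Norm
import Groth.Agent.S4455
import Groth.Agent.MiscFlat6.NormalLowDim
import Groth.Agent.AbSchLib.DimFinite
import Groth.Agent.CurveVBLib.Basic
import Groth.Agent.PicPnLib.BaseChange
import Groth.Agent.IntMultLib.Dim0

/-!
# The curve test for nefness
-/

set_option autoImplicit false
set_option linter.style.haveILetI false
universe u

open CategoryTheory CategoryTheory.Limits AlgebraicGeometry TopologicalSpace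
open IntFunLib IntMultLib
open KFlatLib (pb)

noncomputable section

namespace NefCurveLib

variable {k : Type u} [Field k] {X : Scheme.{u}} [X.Over (Spec (CommRingCat.of k))]
  [IsProper (X ↘ Spec (CommRingCat.of k))]

theorem deg_eq_N (M : X.Modules) : Curv2.deg k X M 1 = N k [M] (Coh.structureModule X) := by
  rw [N, N, N, CurvLib.euler_congr (PicPnLib.unitRight M)]; show Curv2.euler k X M - ((1 : ℕ) : ℤ) * _ = _
  push_cast; ring

theorem one_singleton {M : X.Modules} (hM : PicF.IsInvertible M) : ∀ A ∈ [M], PicF.IsInvertible A := by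
  simpa using hM

/-- Sign of the degree against a coherent module with a single point of dimension one in its support. -/
theorem N_nonneg_iff {M : X.Modules} (hM : PicF.IsInvertible M) {F : X.Modules} (hF : Coh.IsCoh F) {η : X}
    (hη : topologicalKrullDim (closure ({η} : Set X)) = ((1 : ℕ) : WithBot ℕ∞)) (hmem : η ∈ CohB1.support F)
    (hs : CohB1.support F ⊆ closure {η}) : 0 ≤ N k [M] F ↔ 0 ≤ N k [M] (Fpt η) := by
  obtain ⟨T, hT, hfin, hsum⟩ := N_sum (k := k) (one_singleton hM) hF ⟨η, hmem⟩ ((dim_mono hs).trans (le_of_eq (by rw [hη]; rfl)))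
  have hT' : T = {η} := Finset.ext fun z => by
    rw [hT, Finset.mem_singleton]
    refine ⟨fun ⟨hz, hzd⟩ => ?_, fun hz => by subst hz; exact ⟨hmem, hη⟩⟩
    exact (IntMultLib.eq_of_specializes_of_dim isClosed_closure hη.le hzd (subset_closure rfl)
      (specializes_iff_mem_closure.mpr (hs hz))).symm
  have hpos : 0 < (len F η).toNat := Nat.pos_of_ne_zero fun h' => by
    rcases ENat.toNat_eq_zero.mp h' with h' | h'
    · exact hmem (Module.length_eq_zero_iff.mp h')
    · exact hfin η (by rw [hT']; exact Finset.mem_singleton_self η) h'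
  rw [hsum, hT', Finset.sum_singleton, nsmul_eq_mul]
  exact mul_nonneg_iff_of_pos_left (Nat.cast_pos.mpr hpos)

variable {Y : Scheme.{u}} [Y.Over (Spec (CommRingCat.of k))] [IsProper (Y ↘ Spec (CommRingCat.of k))]

/-- The sign of a degree is invariant under finite maps of curves. -/
theorem N_pullback_nonneg_iff {g : Y ⟶ X} (hg : g ≫ (X ↘ Spec (CommRingCat.of k)) = Y ↘ Spec (CommRingCat.of k))
    {M : X.Modules} (hM : PicF.IsInvertible M) {ξ : Y}
    (hξ : topologicalKrullDim (closure ({ξ} : Set Y)) = ((1 : ℕ) : WithBot ℕ∞))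
    (hgξ : topologicalKrullDim (closure ({g ξ} : Set X)) = ((1 : ℕ) : WithBot ℕ∞)) :
    0 ≤ N k [pb g M] (Fpt ξ) ↔ 0 ≤ N k [M] (Fpt (g ξ)) := by
  haveI := isProper_g hg
  haveI := CurvLib.isNoetherian k (X := X)
  rw [show [pb g M] = List.map (pb g) [M] from rfl,
    N_push hg (one_singleton hM) (coh_Fpt k ξ) (le_of_eq (by rw [supp_Fpt k, hξ]; rfl))]
  exact N_nonneg_iff hM (FormalCohLib.isCoh_push_proper g (coh_Fpt k ξ)) hgξ (mem_support_push hg ξ)
    (support_push_closure hg ξ)

theorem deg_nonneg_iff [IsIntegral X] (hdim : topologicalKrullDim X = 1) {M : X.Modules} (hM : PicF.IsInvertible M) :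
    0 ≤ Curv2.deg k X M 1 ↔ 0 ≤ N k [M] (Fpt (genericPoint X)) := by
  haveI := CurvLib.isNoetherian k (X := X)
  rw [deg_eq_N]
  refine N_nonneg_iff hM (DevissLib.isCoh_structureModule X)
    ((dim_closure_generic (X := X)).trans (hdim.trans Nat.cast_one.symm)) ?_ ?_
  · rw [IntMultLib.support_structureModule']; trivial
  · rw [(genericPoint_spec X).def]; exact Set.subset_univ _

theorem subscheme_generic (ξ : X) :
    haveI := isIntegral_ptIdeal ξ
    (ptIdeal ξ).subschemeι (genericPoint (ptIdeal ξ).subscheme) = ξ := by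
  haveI := isIntegral_ptIdeal ξ
  refine ((genericPoint_spec _).image (ptIdeal ξ).subschemeι.continuous).eq ?_
  change closure {ξ} = closure (⇑(ptIdeal ξ).subschemeι '' Set.univ)
  rw [Set.image_univ, IntMultLib.range_ptIdeal, closure_closure]

/-- The curve test with regular curves implies the test with all integral curves. -/
theorem test_integral {E : X.Modules}
    (hnef : ∀ (C : Scheme.{u}) [C.Over (Spec (CommRingCat.of k))] [IsProper (C ↘ (Spec (CommRingCat.of k)))] [IsIntegral C],
      topologicalKrullDim C = 1 → (∀ x : C, IsRegularLocalRing (C.presheaf.stalk x)) →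
      ∀ (f : C ⟶ X), f ≫ (X ↘ (Spec (CommRingCat.of k))) = C ↘ (Spec (CommRingCat.of k)) →
      ∀ (M : C.Modules), PicF.IsInvertible M →
      ∀ (q : (Scheme.Modules.pullback f).obj E ⟶ M), Epi q → 0 ≤ Curv2.deg k C M 1)
    [IsIntegral Y] (hdim : topologicalKrullDim Y = 1) {f : Y ⟶ X}
    (hf : f ≫ (X ↘ Spec (CommRingCat.of k)) = Y ↘ Spec (CommRingCat.of k))
    {M : Y.Modules} (hM : PicF.IsInvertible M) (q : (Scheme.Modules.pullback f).obj E ⟶ M) [Epi q] :
    0 ≤ N k [M] (Fpt (genericPoint Y)) := by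
  let s := Y ↘ Spec (CommRingCat.of k)
  haveI := CurvLib.isNoetherian k (X := Y)
  let Y' := Curv2.normalization Y
  let ν : Y' ⟶ Y := Curv2.normalizationι Y
  haveI : IsFinite ν := Groth.Agent.S4455.isFinite_ν k Y s
  haveI : Surjective ν := Groth.Agent.S4455.surjective_ν Y
  letI : Y'.Over (Spec (CommRingCat.of k)) := ⟨ν ≫ s⟩
  haveI : IsProper (Y' ↘ Spec (CommRingCat.of k)) := inferInstanceAs (IsProper (ν ≫ s))
  haveI := CurvLib.isNoetherian k (X := Y')
  have hdim' : topologicalKrullDim Y' = 1 := (AbSchLib.topologicalKrullDim_eq_of_finite_surjective ν).trans hdim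
  have hreg : ∀ x : Y', IsRegularLocalRing (Y'.presheaf.stalk x) := fun x => by
    haveI := (LocFFLib.normalization_isNormal Y x).1
    haveI := (LocFFLib.normalization_isNormal Y x).2
    exact MiscFlat6.isRegularLocalRing_of_normal_dim_le_one _ ((MiscFlat6.ringKrullDim_stalk_le Y' x).trans hdim'.le)
  let P := Scheme.Modules.pullback ν
  haveI : P.IsLeftAdjoint := (Scheme.Modules.pullbackPushforwardAdjunction ν).isLeftAdjoint
  haveI : Epi (P.map q) := inferInstance
  have h := hnef Y' hdim' hreg (ν ≫ f) (by rw [Category.assoc, hf]; rfl) (P.obj M)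
    (AmpleDevLib.isInvertible_pb ν hM) (((Scheme.Modules.pullbackComp ν f).app E).inv ≫ P.map q) inferInstance
  rw [deg_nonneg_iff hdim' (AmpleDevLib.isInvertible_pb ν hM)] at h
  have hη : ν (genericPoint Y') = genericPoint Y := (LocFFLib.normalization_bir Y).1
  have h1 := (N_pullback_nonneg_iff (k := k) (g := ν) rfl hM (ξ := genericPoint Y')
    ((dim_closure_generic (X := Y')).trans (hdim'.trans Nat.cast_one.symm))
    (by rw [hη]; exact (dim_closure_generic (X := Y)).trans (hdim.trans Nat.cast_one.symm))).mp h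
  rwa [hη] at h1

end NefCurveLib
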