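import Groth.Agent.NefCurveLib.Ext
import Groth.Agent.NefCurveLib.CurveTest
import Groth.Agent.LMLib.Duality
import Groth.Agent.CohCmpLib.HomLift
import Groth.Agent.S7645
import Groth.Agent.CurveDualLib.DualClosed
import Groth.Agent.RRVanLib.GG
import Groth.Agent.Ref1Lib.Ops
import Groth.Agent.GenusZeroLib.PointIdeal
import Groth.Agent.CohGenLib.Twist
import Groth.Agent.CurveH0Lib.Smooth

/-!
# Vanishing of first cohomology and global generation of bundles on curves
-/

set_option autoImplicit false
set_option linter.style.haveILetI false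
set_option maxHeartbeats 1000000
universe u

open CategoryTheory CategoryTheory.Limits AlgebraicGeometry TopologicalSpace Opposite MonoidalCategory
open DevissLib QCohLib
open CurvLib (tensorLeft')
open HilbPolyLib (swapIso congrLeft congrRight assocIso)

noncomputable section

namespace NefCurveLib

section Algebra

open IsLocalRing
open scoped TensorProduct

/-- A nonzero finite module maps onto the residue field. -/
theorem exists_surj_residue {R M : Type*} [CommRing R] [IsLocalRing R] [AddCommGroup M] [Module R M] [Module.Finite R M] [Nontrivial M] :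
    ∃ f : M →ₗ[R] ResidueField R, Function.Surjective f := by
  have hne : (maximalIdeal R) • (⊤ : Submodule R M) ≠ ⊤ := fun h => by
    have := Submodule.eq_bot_of_le_smul_of_le_jacobson_bot (maximalIdeal R) (⊤ : Submodule R M) Module.Finite.fg_top h.ge (maximalIdeal_le_jacobson ⊥)
    exact top_ne_bot this
  obtain ⟨N, hN, hle⟩ := (eq_top_or_exists_le_coatom _).resolve_left hne
  haveI : IsSimpleModule R (M ⧸ N) := isSimpleModule_iff_isCoatom.mpr hN
  obtain ⟨m, hm, ⟨e⟩⟩ := isSimpleModule_iff_quot_maximal.mp (inferInstance : IsSimpleModule R (M ⧸ N))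
  obtain rfl : m = maximalIdeal R := eq_maximalIdeal hm
  exact ⟨e.toLinearMap ∘ₗ N.mkQ, e.surjective.comp N.mkQ_surjective⟩

/-- Tensor products of nonzero finite modules over a local ring are nonzero. -/
theorem nontrivial_tensor {R M N : Type*} [CommRing R] [IsLocalRing R] [AddCommGroup M] [Module R M] [Module.Finite R M] [Nontrivial M]
    [AddCommGroup N] [Module R N] [Module.Finite R N] [Nontrivial N] : Nontrivial (TensorProduct R M N) := by
  obtain ⟨f, hf⟩ := exists_surj_residue (R := R) (M := M)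
  obtain ⟨g, hg⟩ := exists_surj_residue (R := R) (M := N)
  have h : Function.Surjective (TensorProduct.lift ((LinearMap.mul R (ResidueField R)).compl₁₂ f g)) := fun c => by
    obtain ⟨a, ha⟩ := hf c
    obtain ⟨b, hb⟩ := hg 1
    exact ⟨TensorProduct.tmul R a b, by simp [ha, hb]⟩
  exact h.nontrivial

end Algebra

section Tensor

variable {X : Scheme.{u}}

/-- The left unit isomorphism is natural. -/
theorem unit_natural {M N : X.Modules} (f : M ⟶ N) :
    (tensorLeft' (Coh.structureModule X)).map f ≫ (KFlatLib.tensUnitIso N).hom =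
      (KFlatLib.tensUnitIso M).hom ≫ f := by
  have h1 : DCoh.shP.map ((DCoh.toP.obj (Coh.structureModule X)) ◁ DCoh.toP.map f) ≫ DCoh.shP.map (λ_ (DCoh.toP.obj N)).hom =
      DCoh.shP.map (λ_ (DCoh.toP.obj M)).hom ≫ DCoh.shP.map (DCoh.toP.map f) :=
    (DCoh.shP.map_comp _ _).symm.trans ((congrArg DCoh.shP.map (leftUnitor_naturality (DCoh.toP.map f))).trans
      (DCoh.shP.map_comp _ _))
  let ε := (PresheafOfModules.sheafificationAdjunction.{u} (R := X.ringCatSheaf) (𝟙 X.ringCatSheaf.obj)).counit
  exact (Category.assoc _ _ _).symm.trans ((congrArg (· ≫ ε.app N) h1).trans ((Category.assoc _ _ _).trans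
    ((congrArg (_ ≫ ·) (ε.naturality f)).trans (Category.assoc _ _ _).symm)))

/-- The two sided tensor functors agree. -/
def swapNatIso (N : X.Modules) : tensorLeft' N ≅ (DCoh.tensorBi (X := X)).flip.obj N :=
  NatIso.ofComponents (fun A => KFlatLib.tensSwap A N) fun {A B} f =>
    (DCoh.shP.map_comp _ _).symm.trans ((congrArg DCoh.shP.map
      (BraidedCategory.braiding_naturality_right (DCoh.toP.obj N) (DCoh.toP.map f))).trans
        (DCoh.shP.map_comp _ _))

/-- Restriction to a closed subscheme as a tensor product. -/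
def toQuot (I : X.IdealSheafData) (M : X.Modules) : M ⟶ CohB1.tensorMod (ClSub.quotMod I) M :=
  (KFlatLib.tensUnitIso M).inv ≫ ((DCoh.tensorBi (X := X)).map (ClSub.toSubscheme I)).app M

theorem toQuot_natural (I : X.IdealSheafData) {M N : X.Modules} (f : M ⟶ N) :
    f ≫ toQuot I N = toQuot I M ≫ (tensorLeft' (ClSub.quotMod I)).map f := by
  have h : f ≫ (KFlatLib.tensUnitIso N).inv =
      (KFlatLib.tensUnitIso M).inv ≫ (tensorLeft' (Coh.structureModule X)).map f := by
    rw [Iso.comp_inv_eq, Category.assoc, unit_natural, Iso.inv_hom_id_assoc]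
  rw [toQuot, toQuot, ← Category.assoc, h, Category.assoc, Category.assoc]
  exact congrArg _ (((DCoh.tensorBi (X := X)).map (ClSub.toSubscheme I)).naturality f)

theorem shortExact_flip {n : ℕ} {N : X.Modules} (hN : FlatMod.IsFinLocFreeOfRank n N) (I : X.IdealSheafData) :
    ((CurvLib.idealSeq I).map ((DCoh.tensorBi (X := X)).flip.obj N)).ShortExact :=
  ShortComplex.shortExact_of_iso ((CurvLib.idealSeq I).mapNatIso (swapNatIso N))
    (CurvLib.shortExact_tensor_locFree hN (CurvLib.idealSeq_shortExact I))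

end Tensor

variable {k : Type u} [Field k] {X : Scheme.{u}} [X.Over (Spec (CommRingCat.of k))]
  [IsProper (X ↘ Spec (CommRingCat.of k))] [IsIntegral X] (hdim : topologicalKrullDim X = 1)

include k hdim in
/-- Vanishing after removing each closed point forces global generation. -/
theorem gg_of_h1 {n : ℕ} {N : X.Modules} (hN : FlatMod.IsFinLocFreeOfRank n N)
    (h : ∀ (x : X) (hx : IsClosed ({x} : Set X)),
      Subsingleton (Coh.HH X (CohB1.tensorMod (ClSub.idealMod (GenusZeroLib.ptIdeal hx)) N) 1)) :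
    Curv2.IsGloballyGenerated N := by
  haveI := CurvLib.isNoetherian k (X := X)
  have hNc := CurvLib.isCoh_of_locFree hN
  let P : X.Modules := SheafOfModules.free (R := X.ringCatSheaf) Γ(N, ⊤)
  let p : P ⟶ N := N.freeHomEquiv.symm fun s => toSections N s
  refine ⟨Γ(N, ⊤), p, ?_⟩
  have hfree : Coh.IsQCoh (SheafOfModules.free (R := X.ringCatSheaf) Γ(N, ⊤)) :=
    isQCoh_sigma (fun _ : Γ(N, ⊤) => Coh.structureModule X) (fun _ => isQCoh_unit)
  have hC : Coh.IsCoh (cokernel p) := QCohLib.isCoh_cokernel p hfree hNc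
  have hp : ∀ σ : Γ(N, ⊤), unitHom N σ ≫ cokernel.π p = 0 := fun σ => by
    have hσ : (show Coh.structureModule X ⟶ P from SheafOfModules.ιFree (R := X.ringCatSheaf) σ) ≫ p = unitHom N σ :=
      QCohLib.ιFree_comp (fun s : Γ(N, ⊤) => s) σ
    rw [← hσ, Category.assoc, cokernel.condition, comp_zero]
  have hzero : ∀ y : Coh.HH X N 0, CurvLib.hMap (k := k) (cokernel.π p) 0 y = 0 := by
    intro y
    apply (DegPullLib.e0 (cokernel p)).injective
    rw [map_zero]
    refine (RRVanLib.e0_map (k := k) (cokernel.π p) y).trans ?_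
    have h1 := hp (DegPullLib.e0 N y)
    have h2 := congr_arg (fun φ : Coh.structureModule X ⟶ cokernel p => φ.app ⊤ (1 : Γ(X, ⊤))) h1
    change (cokernel.π p).app ⊤ ((unitHom N (DegPullLib.e0 N y)).app ⊤ (1 : Γ(X, ⊤))) = 0 at h2
    rw [unitHom_app, one_smul] at h2
    exact (congrArg ((cokernel.π p).app ⊤) (AmpleLib.res_refl N _).symm).trans h2
  by_contra hne
  have hne' : ¬ IsZero (cokernel p) := fun hz => hne (Abelian.epi_of_cokernel_π_eq_zero p (hz.eq_of_tgt _ _))
  obtain ⟨x, hxs, hx⟩ := IsClosed.exists_closed_singleton (QCohLib.isClosed_support _ hC.2)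
    (Set.nonempty_iff_ne_empty.mpr fun he => hne' (DevissLib.isZero_of_support_empty he))
  let I := GenusZeroLib.ptIdeal hx
  let Q := ClSub.quotMod I
  have hQ : Coh.IsCoh Q := CurvLib.isCoh_quotMod I
  haveI : DCoh.HasSheafHom Q := (HomCohLib.homAdj Q).isLeftAdjoint
  let T := tensorLeft' Q
  let S := (CurvLib.idealSeq I).map ((DCoh.tensorBi (X := X)).flip.obj N)
  have hS : S.ShortExact := shortExact_flip hN I
  have h₃ : Coh.IsCoh (CohB1.tensorMod Q N) := Ref1Lib.isCoh_tensor hQ hNc
  have hsurj : Function.Surjective (CurvLib.hMap (k := k) (toQuot I N) 0) := by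
    intro z
    obtain ⟨y, hy⟩ : (show Coh.HH X S.X₃ 0 from z) ∈ LinearMap.range (CurvLib.hMap (k := k) S.g 0) := by
      rw [CurvLib.exact₃ hS 0]
      exact LinearMap.mem_ker.mpr (@Subsingleton.elim _ (h x hx) _ _)
    refine ⟨CurvLib.hMap (k := k) (KFlatLib.tensUnitIso N).hom 0 y, ?_⟩
    rw [← hy, ← CurvLib.hMap_comp]
    show CurvLib.hMap (k := k) ((KFlatLib.tensUnitIso N).hom ≫ toQuot I N) 0 y = _
    rw [toQuot, Iso.hom_inv_id_assoc]
    rfl
  haveI : Epi (T.map (cokernel.π p)) := inferInstance
  have hdQ : ∀ {M : X.Modules}, CohB1.support (CohB1.tensorMod Q M) ⊆ {x} := fun {M} y hy => by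
    have h1 : y ∈ CohB1.support Q := CohGenLib.support_tensor_subset M Q
      (by rwa [DevissLib.support_iso (swapIso M Q)])
    rwa [show CohB1.support Q = CohB1.support (IntFunLib.Fpt x) from ?_, IntFunLib.supp_Fpt k, hx.closure_eq] at h1
    exact congrArg (fun J => CohB1.support (ClSub.quotMod J))
      (congrArg Scheme.IdealSheafData.vanishingIdeal (Closeds.ext hx.closure_eq.symm))
  have hd0 : ∀ {M : X.Modules}, topologicalKrullDim (CohB1.support (CohB1.tensorMod Q M)) ≤ 0 := fun {M} =>
    (IntFunLib.dim_mono hdQ).trans (topologicalKrullDim_zero_of_discreteTopology _)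
  let K : ShortComplex X.Modules := ShortComplex.mk (kernel.ι (T.map (cokernel.π p))) (T.map (cokernel.π p)) (kernel.condition _)
  have hK : K.ShortExact :=
    { exact := ShortComplex.exact_of_f_is_kernel _ (kernelIsKernel _)
      mono_f := inferInstanceAs (Mono (kernel.ι (T.map (cokernel.π p))))
      epi_g := inferInstanceAs (Epi (T.map (cokernel.π p))) }
  have hTC : Coh.IsCoh (CohB1.tensorMod Q (cokernel p)) := Ref1Lib.isCoh_tensor hQ hC
  have hz : IsZero (CohB1.tensorMod Q (cokernel p)) := by
    refine CurvLib.isZero_of_h0 (k := k) hTC hd0 ?_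
    haveI : Subsingleton (Coh.HH X (CohB1.tensorMod Q (cokernel p)) 0) := by
      refine ⟨fun a b => ?_⟩
      suffices H : ∀ a : Coh.HH X (CohB1.tensorMod Q (cokernel p)) 0, a = 0 by rw [H a, H b]
      intro a
      haveI : Subsingleton (Coh.HH X K.X₁ 1) := CurvLib.subsingleton_HH_of_support _ (T := {x}) hx
        ((DevissLib.support_mono (kernel.ι (T.map (cokernel.π p)))).trans hdQ) (d := 0)
        (topologicalKrullDim_zero_of_discreteTopology _) 1 one_pos
      obtain ⟨z, rfl⟩ : (show Coh.HH X K.X₃ 0 from a) ∈ LinearMap.range (CurvLib.hMap (k := k) K.g 0) := by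
        rw [CurvLib.exact₃ hK 0]
        exact LinearMap.mem_ker.mpr (Subsingleton.elim (α := Coh.HH X K.X₁ 1) _ _)
      obtain ⟨y, rfl⟩ := hsurj z
      show CurvLib.hMap (k := k) (T.map (cokernel.π p)) 0 (CurvLib.hMap (k := k) (toQuot I N) 0 y) = 0
      refine (CurvLib.hMap_comp (k := k) (toQuot I N) (T.map (cokernel.π p)) 0 y).symm.trans ?_
      refine (congrArg (fun φ => CurvLib.hMap (k := k) φ 0 y) (toQuot_natural I (cokernel.π p)).symm).trans ?_
      exact (CurvLib.hMap_comp (k := k) (cokernel.π p) (toQuot I (cokernel p)) 0 y).trans ((congrArg _ (hzero y)).trans (map_zero _))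
    exact Module.finrank_zero_of_subsingleton
  have hst : Subsingleton ((St x).obj (CohB1.tensorMod Q (cokernel p))) :=
    ModuleCat.subsingleton_of_isZero ((St x).map_isZero hz)
  haveI : Subsingleton (TensorProduct (X.presheaf.stalk x) ((St x).obj Q) ((St x).obj (cokernel p))) :=
    ((KFlatLib.stalkTensorIso Q (cokernel p) x).toLinearEquiv.toEquiv.subsingleton_congr).2 hst
  haveI := DevissLib.isNoetherian_stalk hQ x
  haveI := DevissLib.isNoetherian_stalk hC x
  haveI : Nontrivial ((St x).obj Q) := not_subsingleton_iff_nontrivial.mp (show x ∈ CohB1.support Q by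
    rw [show CohB1.support Q = CohB1.support (IntFunLib.Fpt x) from congrArg (fun J => CohB1.support (ClSub.quotMod J))
      (congrArg Scheme.IdealSheafData.vanishingIdeal (Closeds.ext hx.closure_eq.symm)), IntFunLib.supp_Fpt k]
    exact subset_closure rfl)
  haveI : Nontrivial ((St x).obj (cokernel p)) := not_subsingleton_iff_nontrivial.mp hxs
  haveI := nontrivial_tensor (R := X.presheaf.stalk x) (M := (St x).obj Q) (N := (St x).obj (cokernel p))
  exact (not_subsingleton (TensorProduct (X.presheaf.stalk x) ((St x).obj Q) ((St x).obj (cokernel p)))) ‹_›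

variable (hreg : ∀ x : X, IsRegularLocalRing (X.presheaf.stalk x))

include hdim hreg in
/-- No invertible quotient of low degree forces the vanishing of the first cohomology. -/
theorem subsingleton_h1_of_quot [IsAlgClosed k] {N : X.Modules} (hN : FlatMod.IsFinLocFree N)
    (h : ∀ M : X.Modules, PicF.IsInvertible M → ∀ q : N ⟶ M, Epi q →
      2 * (Curv2.genus k X : ℤ) - 1 ≤ Curv2.deg k X M 1) : Subsingleton (Coh.HH X N 1) := by
  haveI := CurvLib.isNoetherian k (X := X)
  haveI := CurveH0Lib.smooth_of_regular k (X ↘ Spec (CommRingCat.of k)) hreg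
  haveI := SurfNumLib.smoothRel_of_dim (k := k) (X := X) (n := 1) hdim
  obtain ⟨r, ι, hι, hιc⟩ := Groth.Agent.S7645.result k X hdim.le
  let W := Omega.sheaf (X ↘ Spec (CommRingCat.of k))
  have hW : PicF.IsInvertible W := CurveDualLib.omega_invertible (k := k) hdim
  haveI := CurvLib.finite_HH (k := k) (Groth.Agent.PerfLib.isCoh_of_isFinLocFree hN) 1
  by_contra hne
  have hd := LMLib.hh_dual k ι hιc 1 (LMLib.isExtPow_one W) hN 1 le_rfl
  have h0 : Module.finrank k (Coh.HH X (CohCmpLib.homMod N W) 0) ≠ 0 := fun h0 =>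
    hne ((Module.finrank_zero_iff (R := k)).mp (hd.trans h0))
  haveI : Nontrivial (Coh.HH X (CohCmpLib.homMod N W) 0) := Module.nontrivial_of_finrank_pos (Nat.pos_of_ne_zero h0)
  obtain ⟨z, hz⟩ := exists_ne (0 : Coh.HH X (CohCmpLib.homMod N W) 0)
  let s := DegPullLib.e0 _ z
  have hs : CohCmpLib.secHom s ≠ 0 := fun he => hz ((DegPullLib.e0 _).map_eq_zero_iff.mp
    (CohCmpLib.homMod_ext fun y hy => by
      rw [← CohCmpLib.stalk_secHom, he, Functor.map_zero]; rfl))
  obtain ⟨J, q, hq, hJ, hle⟩ := exists_invertible_image (k := k) hdim hreg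
    (Groth.Agent.PerfLib.isCoh_of_isFinLocFree hN) hW (CohCmpLib.secHom s) hs
  have := h J hJ q hq
  rw [CurveDualLib.deg_omega_closed hdim] at hle
  omega

end NefCurveLib
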