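import Groth.Agent.ProjBunLib.Ses

/-!
# Ranks in short exact sequences of locally free modules
-/

set_option autoImplicit false
set_option linter.style.haveILetI false
universe u

open AlgebraicGeometry CategoryTheory CategoryTheory.Limits Opposite TopologicalSpace

namespace NefCurveLib

theorem rank_add {X : Scheme.{u}} {S : ShortComplex X.Modules} (hS : S.ShortExact) {n₁ n₂ n₃ : ℕ}
    (h₁ : FlatMod.IsFinLocFreeOfRank n₁ S.X₁) (h₂ : FlatMod.IsFinLocFreeOfRank n₂ S.X₂)
    (h₃ : FlatMod.IsFinLocFreeOfRank n₃ S.X₃) (x : X) : n₂ = n₁ + n₃ := by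
  obtain ⟨σ⟩ := ProjBunLib.nonempty_splitting hS h₃ x
  obtain ⟨e₁⟩ := ProjBunLib.free_stalk_of_rank h₁ x
  obtain ⟨e₂⟩ := ProjBunLib.free_stalk_of_rank h₂ x
  obtain ⟨e₃⟩ := ProjBunLib.free_stalk_of_rank h₃ x
  let T := S.map (DerSch.stalkFunctor X x)
  let w : T.X₂ ≃ₗ[X.presheaf.stalk x] T.X₁ × T.X₃ :=
    { toFun := fun b => (σ.r.hom b, T.g.hom b)
      invFun := fun p => T.f.hom p.1 + σ.s.hom p.2
      map_add' := fun a b => by simp
      map_smul' := fun a b => by simp
      left_inv := fun b => by exact congr($(σ.id) b)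
      right_inv := fun p => Prod.ext (by
          simp only [map_add]
          rw [show σ.r.hom (T.f.hom p.1) = p.1 from congr($(σ.f_r) p.1),
            show σ.r.hom (σ.s.hom p.2) = 0 from congr($(σ.s_r) p.2), add_zero]) (by
          simp only [map_add]
          rw [show T.g.hom (T.f.hom p.1) = 0 from congr($(T.zero) p.1),
            show T.g.hom (σ.s.hom p.2) = p.2 from congr($(σ.s_g) p.2), zero_add]) }
  haveI : Module.Free (X.presheaf.stalk x) T.X₁ := Module.Free.of_equiv e₁.symm
  haveI : Module.Finite (X.presheaf.stalk x) T.X₁ := Module.Finite.equiv e₁.symm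
  haveI : Module.Free (X.presheaf.stalk x) T.X₃ := Module.Free.of_equiv e₃.symm
  haveI : Module.Finite (X.presheaf.stalk x) T.X₃ := Module.Finite.equiv e₃.symm
  have h := w.finrank_eq
  rw [Module.finrank_prod] at h
  have a : Module.finrank (X.presheaf.stalk x) T.X₁ = n₁ := e₁.finrank_eq.trans (Module.finrank_fin_fun _)
  have b : Module.finrank (X.presheaf.stalk x) T.X₂ = n₂ := e₂.finrank_eq.trans (Module.finrank_fin_fun _)
  have c : Module.finrank (X.presheaf.stalk x) T.X₃ = n₃ := e₃.finrank_eq.trans (Module.finrank_fin_fun _)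
  omega

end NefCurveLib
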