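import Groth.Agent.CurveVBLib.Basic
import Groth.Agent.CohCmpLib.LineBundle
import Groth.Agent.PerfLib.Coherent

/-!
# Degrees of quotients on regular curves
-/

set_option autoImplicit false
set_option linter.style.haveILetI false
universe u

open CategoryTheory CategoryTheory.Limits AlgebraicGeometry TopologicalSpace
open CurveVBLib

noncomputable section

namespace NefCurveLib

variable {k : Type u} [Field k] {C : Scheme.{u}} [C.Over (Spec (CommRingCat.of k))]
  [IsProper (C ↘ Spec (CommRingCat.of k))] [IsIntegral C]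

/-- On a regular curve a nonzero map to an invertible module factors through an invertible quotient of no larger
degree. -/
theorem exists_invertible_image (hdim : topologicalKrullDim C = 1) (hreg : ∀ x : C, IsRegularLocalRing (C.presheaf.stalk x))
    {A M : C.Modules} (hA : Coh.IsCoh A) (hM : PicF.IsInvertible M) (φ : A ⟶ M) (hφ : φ ≠ 0) :
    ∃ (I : C.Modules) (q : A ⟶ I), Epi q ∧ PicF.IsInvertible I ∧ Curv2.deg k C I 1 ≤ Curv2.deg k C M 1 := by
  haveI := CurvLib.isNoetherian k (X := C)
  have hMc := CurvLib.isCoh_of_isInvertible hM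
  have hM1 := (CohCmpLib.invertible_iff_rank_one M).mp hM
  let I := Abelian.image φ
  let ι : I ⟶ M := Abelian.image.ι φ
  have hI : Coh.IsCoh I := QCohLib.isCoh_kernel _ hMc (QCohLib.isCoh_cokernel φ hA.1 hMc).1
  have hf := rank_genRank ((Groth.Agent.S1688.result C hreg hdim.le I hI).mp (torsionFree_of_mono hM1 ι))
  have hι : ι ≠ 0 := fun h => hφ (by rw [← Abelian.image.fac φ]; show _ ≫ ι = 0; rw [h, comp_zero])
  have hr : CurvLib.genRank I = 1 := by
    have h1 := genRank_mono ι hI hMc
    rw [genRank_eq hM1] at h1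
    by_contra hne
    have h0 : CurvLib.genRank I = 0 := by omega
    exact hι ((isZero_of_genRank_zero hM1 ι (h0 ▸ hf)).eq_of_src _ _)
  rw [hr] at hf
  have hIi := (CohCmpLib.invertible_iff_rank_one I).mpr hf
  refine ⟨I, Abelian.factorThruImage φ, inferInstance, hIi, ?_⟩
  have := CurvLib.euler_le (k := k) hIi hM hdim hι
  rw [deg_eq, deg_eq]
  omega

/-- Quotient degrees through an exact sequence `A → B → D → 0`. -/
theorem deg_nonneg_of_exact (hdim : topologicalKrullDim C = 1) (hreg : ∀ x : C, IsRegularLocalRing (C.presheaf.stalk x))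
    {A B D M : C.Modules} (f : A ⟶ B) (g : B ⟶ D) (w : f ≫ g = 0) (hcok : IsColimit (CokernelCofork.ofπ g w))
    (hA : Coh.IsCoh A) (hM : PicF.IsInvertible M)
    (h₁ : ∀ N : C.Modules, PicF.IsInvertible N → ∀ q : A ⟶ N, Epi q → 0 ≤ Curv2.deg k C N 1)
    (h₃ : ∀ N : C.Modules, PicF.IsInvertible N → ∀ q : D ⟶ N, Epi q → 0 ≤ Curv2.deg k C N 1)
    (q : B ⟶ M) [Epi q] : 0 ≤ Curv2.deg k C M 1 := by
  by_cases h : f ≫ q = 0
  · have he : g ≫ hcok.desc (CokernelCofork.ofπ q h) = q := hcok.fac _ WalkingParallelPair.one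
    exact h₃ M hM (hcok.desc (CokernelCofork.ofπ q h)) (epi_of_epi_fac he)
  · obtain ⟨I, r, hr, hI, hle⟩ := exists_invertible_image (k := k) hdim hreg hA hM (f ≫ q) h
    exact (h₁ I hI r hr).trans hle

end NefCurveLib
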